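import Cfsg.Agent.Lib.KnownSimple.MultM.L33H.ValC0
import Cfsg.Agent.Lib.KnownSimple.MultC.ValH

/-!
# The relations between the relators
-/

set_option autoImplicit false

namespace Cfsg.Agent.Lib.KnownSimple.MultM.L33H

open Cfsg Cfsg.Spor Cfsg.Agent.Lib.Compute Cfsg.Agent.Lib.KnownSimple.PE Cfsg.Agent.Lib.KnownSimple.Leech
open Cfsg.Agent.Lib.KnownSimple Cfsg.Agent.Lib.KnownSimple.AutRigid Cfsg.Agent.Lib.KnownSimple.Pres
open Cfsg.Agent.Lib.KnownSimple.MultC


theorem hEF : ∀ e, e < n * d → chkEdgeG 4294967296 mskM cKK C.τ d n RL 19 5 15 (lookP parT) (lookP genT) (lg 0 peL) tv e = true := by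
  have h : allBelow fe 576 = true :=
    allBelow_of_pad (m := 1) (s := 1024) (by norm_num) (fun c hc => by
    interval_cases c
    · exact ve0
  )
  intro e he
  exact (allBelow_iff _ _).1 h e he
set_option maxHeartbeats 0 in
set_option maxRecDepth 100000 in
theorem hLn : allBelow (fun q => Nat.blt (((lg [] RL q).length + 1) * 65536) 4294967296) 19 = true := by decide +kernel
theorem hE : ∀ e, e < n * d → chkEdge C.τ d n RL 19 5 15 (lookP parT) (lookP genT) (lg 0 peL) (toV 4294967296 20 tv) e = true :=
  chkEdge_of_G (by norm_num) (good_of_mask (W := 32) (b := 16) (by norm_num) (by norm_num) (by norm_num) (by decide +kernel) (by decide +kernel))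
    (fun l i hl hi => C.hlt l i hl hi) (fun q _ => words_lg hokR q) (len_of_chk hLn) hEF
set_option maxRecDepth 100000 in
/-- The relations. -/
def rowsF : List (ℕ × ℕ × List ℤ) := [(0,9,[.ofNat 0,.ofNat 0,.ofNat 0,.ofNat 0,.ofNat 0,.ofNat 3,.ofNat 0,.ofNat 3,.ofNat 5,.ofNat 0,.ofNat 0,.negSucc 1,.ofNat 0,.ofNat 0,.ofNat 0,.ofNat 0,.ofNat 0,.ofNat 0,.ofNat 0,.ofNat 0]),
  (1,9,[.ofNat 0,.negSucc 0,.ofNat 0,.ofNat 0,.ofNat 1,.ofNat 2,.ofNat 1,.ofNat 2,.ofNat 2,.ofNat 0,.ofNat 0,.ofNat 0,.ofNat 2,.ofNat 0,.ofNat 0,.ofNat 0,.ofNat 0,.negSucc 0,.ofNat 1,.negSucc 0]),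
  (2,17,[.negSucc 4,.negSucc 1,.ofNat 0,.ofNat 0,.ofNat 0,.ofNat 0,.negSucc 3,.ofNat 6,.negSucc 10,.ofNat 0,.ofNat 1,.ofNat 0,.negSucc 0,.ofNat 4,.ofNat 0,.ofNat 0,.ofNat 0,.ofNat 3,.negSucc 2,.negSucc 2]),
  (5,9,[.negSucc 0,.ofNat 2,.ofNat 0,.ofNat 1,.negSucc 0,.ofNat 0,.ofNat 1,.ofNat 6,.ofNat 0,.ofNat 0,.negSucc 0,.ofNat 0,.negSucc 2,.ofNat 0,.ofNat 0,.ofNat 0,.ofNat 0,.ofNat 0,.ofNat 2,.ofNat 1]),
  (5,11,[.ofNat 0,.ofNat 0,.ofNat 0,.ofNat 0,.ofNat 0,.negSucc 0,.ofNat 1,.ofNat 0,.ofNat 0,.ofNat 0,.ofNat 0,.ofNat 0,.ofNat 0,.ofNat 0,.ofNat 0,.ofNat 2,.negSucc 0,.ofNat 0,.ofNat 0,.ofNat 0]),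
  (5,18,[.negSucc 1,.negSucc 0,.ofNat 0,.negSucc 0,.ofNat 0,.ofNat 1,.negSucc 5,.negSucc 1,.negSucc 3,.ofNat 0,.ofNat 1,.ofNat 0,.ofNat 3,.ofNat 2,.ofNat 0,.ofNat 0,.ofNat 0,.ofNat 1,.negSucc 1,.negSucc 1]),
  (6,16,[.ofNat 4,.ofNat 1,.ofNat 0,.ofNat 0,.ofNat 0,.negSucc 2,.ofNat 1,.negSucc 4,.ofNat 4,.ofNat 0,.ofNat 0,.ofNat 4,.ofNat 5,.negSucc 0,.ofNat 0,.ofNat 2,.ofNat 0,.negSucc 2,.negSucc 0,.negSucc 1]),
  (8,10,[.ofNat 3,.ofNat 0,.ofNat 0,.ofNat 0,.ofNat 0,.ofNat 5,.ofNat 4,.ofNat 1,.ofNat 11,.ofNat 0,.ofNat 0,.negSucc 0,.ofNat 2,.negSucc 1,.ofNat 0,.ofNat 0,.ofNat 0,.negSucc 0,.negSucc 1,.ofNat 1]),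
  (11,14,[.ofNat 1,.ofNat 0,.ofNat 0,.ofNat 0,.negSucc 1,.ofNat 0,.ofNat 5,.ofNat 3,.ofNat 7,.ofNat 0,.ofNat 0,.ofNat 1,.ofNat 0,.negSucc 2,.ofNat 0,.ofNat 0,.ofNat 0,.negSucc 0,.negSucc 0,.ofNat 2]),
  (33,0,[.ofNat 0,.ofNat 0,.ofNat 0,.ofNat 0,.ofNat 0,.ofNat 0,.ofNat 0,.ofNat 0,.negSucc 1,.ofNat 0,.ofNat 0,.ofNat 1,.ofNat 0,.ofNat 0,.ofNat 0,.ofNat 0,.ofNat 0,.ofNat 0,.ofNat 0,.ofNat 0]),
  (41,18,[.ofNat 0,.ofNat 0,.ofNat 0,.ofNat 0,.ofNat 0,.ofNat 0,.ofNat 2,.ofNat 0,.ofNat 1,.ofNat 0,.ofNat 0,.ofNat 0,.ofNat 0,.negSucc 0,.ofNat 0,.ofNat 0,.ofNat 0,.ofNat 0,.ofNat 0,.ofNat 0]),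
  (49,15,[.ofNat 0,.ofNat 0,.ofNat 0,.ofNat 0,.ofNat 0,.negSucc 1,.negSucc 1,.ofNat 0,.negSucc 3,.ofNat 0,.ofNat 0,.ofNat 1,.ofNat 0,.ofNat 1,.ofNat 0,.ofNat 0,.ofNat 0,.ofNat 0,.ofNat 0,.ofNat 0]),
  (50,18,[.ofNat 0,.ofNat 0,.ofNat 1,.negSucc 0,.ofNat 0,.negSucc 0,.negSucc 2,.ofNat 0,.ofNat 1,.ofNat 0,.ofNat 0,.ofNat 2,.ofNat 2,.negSucc 0,.ofNat 0,.ofNat 0,.ofNat 0,.negSucc 0,.negSucc 0,.ofNat 1]),
  (57,13,[.ofNat 0,.ofNat 1,.ofNat 0,.negSucc 1,.ofNat 1,.negSucc 1,.negSucc 2,.negSucc 7,.negSucc 5,.ofNat 0,.ofNat 1,.ofNat 0,.ofNat 1,.ofNat 0,.ofNat 1,.ofNat 0,.ofNat 0,.negSucc 0,.ofNat 2,.ofNat 1]),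
  (60,17,[.ofNat 0,.negSucc 3,.ofNat 0,.ofNat 1,.ofNat 0,.ofNat 3,.ofNat 12,.ofNat 13,.ofNat 7,.ofNat 0,.ofNat 0,.ofNat 1,.negSucc 1,.negSucc 1,.ofNat 0,.ofNat 1,.ofNat 0,.negSucc 2,.negSucc 0,.ofNat 0]),
  (101,13,[.negSucc 4,.ofNat 1,.ofNat 0,.negSucc 1,.ofNat 2,.negSucc 0,.negSucc 12,.negSucc 5,.negSucc 18,.ofNat 0,.ofNat 0,.negSucc 0,.ofNat 1,.ofNat 6,.ofNat 0,.ofNat 1,.ofNat 0,.ofNat 3,.ofNat 3,.negSucc 3]),
  (108,10,[.ofNat 4,.negSucc 0,.ofNat 2,.ofNat 1,.negSucc 0,.ofNat 2,.ofNat 6,.ofNat 17,.ofNat 17,.ofNat 1,.negSucc 0,.ofNat 2,.negSucc 0,.negSucc 1,.ofNat 0,.ofNat 3,.negSucc 0,.negSucc 3,.negSucc 4,.ofNat 2]),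
  (108,12,[.ofNat 0,.ofNat 0,.ofNat 0,.ofNat 0,.ofNat 0,.ofNat 0,.negSucc 0,.ofNat 1,.ofNat 0,.ofNat 0,.ofNat 0,.ofNat 0,.ofNat 0,.ofNat 0,.ofNat 0,.ofNat 2,.ofNat 0,.negSucc 0,.ofNat 0,.ofNat 0]),
  (116,10,[.ofNat 0,.ofNat 0,.ofNat 0,.negSucc 0,.ofNat 1,.negSucc 2,.ofNat 0,.negSucc 1,.negSucc 8,.ofNat 0,.ofNat 0,.ofNat 4,.ofNat 3,.ofNat 2,.ofNat 0,.ofNat 0,.ofNat 1,.ofNat 1,.ofNat 0,.negSucc 3]),
  (128,14,[.ofNat 0,.negSucc 0,.negSucc 0,.ofNat 1,.negSucc 1,.negSucc 0,.ofNat 9,.ofNat 9,.negSucc 1,.ofNat 0,.ofNat 0,.ofNat 0,.negSucc 5,.ofNat 1,.ofNat 0,.negSucc 1,.ofNat 1,.ofNat 3,.negSucc 0,.ofNat 0]),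
  (142,13,[.negSucc 0,.ofNat 0,.ofNat 0,.negSucc 0,.ofNat 0,.ofNat 2,.negSucc 4,.negSucc 0,.negSucc 0,.ofNat 0,.ofNat 0,.negSucc 1,.ofNat 0,.ofNat 1,.ofNat 0,.ofNat 1,.ofNat 0,.ofNat 0,.ofNat 1,.ofNat 0])]
set_option maxRecDepth 100000 in
/-- The relations, packed. -/
def rowsP : List (ℕ × ℕ × ℕ × ℕ) := [(0,9,578960446267460817119306844431825089439401524103725307963058486541844276576256,18347988927920572092886567162416695526372519913346248989900710715095383008707878464560148424881005492436992),
  (1,9,247330401473104534060502521019647190035131349101211839914141860105290014064956425250516688288853436052317130871636223646511201497379665048298679779003131993807289269276901376,1062275985633534197436762509675090168359161128352444414192420399515071652625394156807756525563053616077862379754622805002212146331414481936396105763043501739906971535985860539704147968),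
  (2,17,172758289710458741099924678695141703381273290654834813276395775263722256629605341525688981336643220592712560106914309845716660327413113602334176268043755794689163264,3186827957642593796556842841496319327036500276467585586500300348944649929450001526233782894142425060810871465338524096294945526726616621374858312026102591720093650487248851167780798469),
  (5,9,1062275986128195000325385481225942296698480615524326544601311956228933231907498935691388738871091373460264748951688506642405446534948647936203828331041732123852562737558668670190747648,118206018589183437638973107336351751497634239517565892118447584735093818084439013724431939428898850847050277826068481),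
  (5,11,6243497100631984462763194459586332611497196285329942301718313919250743477639531240240618483228719329000417698032236453457312053714021034647093248,13407807929942597099574024998205846127479365820592393377723561443721764030073546976801874298166903427690033319688123381756672086496779286229453304938627072),
  (5,18,57586096570152913699974892898380567793870583770403346204942235404783272912323539689259067005921109046817931005957154146225638685600444484036543798627348558787903488,2124551971761729197704561894330879551357666850978390391000200232629740351629203421169713743401549944798043871092538350098093662277143595431997752468937990879750773459052784662209363970),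
  (6,16,6243497100631984462763194459783342642515864659247178646404805122601438733401552778188746732169784110919507597045386103917014759103847842397028356,2124551971514398796404215649980835771437944339638400745279753992386481197888706900370332828715214749555890381273110089293283003294044869788787624070299566580632739436193272405887549440),
  (8,10,1062275985633534197379176413104937254659186235454063846398888276400885923734097274436749562610658858565390092164015570362125406801995745010594749365890282768836116937785843977881124867,494660803003795164691157955739269272968643265996294263598411252372156676174671994431666433343828731093362072266688435224419739290610612792694907511297342104917540103841120256),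
  (11,14,2124551971267068394758352826209874509318372470908127692797776552801614239443418144951113969346963585959139336837373932414550988309428901062799680734302499780721229494136734401783922689,247330401530690630630655434719622082933511916895251654012358499920581967392532556361499660597843333748138084672305870643129919605477563009660308371761079139816113672208515072),
  (33,0,9173994463960286046443283581208347763186259956673124494950355357547691504353939232280074212440502746218496,231584178474632390847141970017375815706539969331281128078915168015826259279872),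
  (41,18,115792089237316195436125188479461269380941563512055896871662294896841198665728,169230328010303641331690318856389386196071598838855992136870091590247882556495704531248437872567112920983350278405979725889536),
  (49,15,169230328010303641340864313320349672242514882420064339900056351546921007051446059888796129376921052153263424490846482472108032,463168356949264781706838143508447996215413323345384958655467612959892452671488),
  (50,18,1062275985633534197379176413104937254659186235454063846398888276400885923734115622425677483182751745132551350938649542760137825082088815320984983031749376755426031997408032686375698432,247330401530690630630655434719622082933511916894913193356337892637918586754819777589107517400165621763864344489125393709322135817958994291621628209954429050123777490800345088),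
  (57,13,1062275986128195000325385481225942296698480615525053383325607563119521957721583334704956795258914756044433713911845619169621386275260937972687750535530632942616844075002971610129891328,57586096570152913699974892898380567793532123114264532903689671329431521032595044740084415534665442548264885118442686004190447751637816165384164832560018296062083072),
  (60,17,3121748550315992231381597229793166305757772137128931436905600243207390631207963572751692507991662837742556789899010511233151171800768656648962048,247330401645862823770961262119571868730273052482146669912956066099022408690963767120693965706782078798801751417089494659600050259643439923466490021511556682700254296798134272),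
  (101,13,741991204592071891891966304161987997350851742916628868282877157149695823842905751116870067570443884746093874808935122678188009395770266495966576981916766406434788267966595072,4249103942534136789516705652419749018636744941816255385595553105603228478886827115907763978407880728634698044287430865150122440180593102831325008965295161810170782253859096101593808901),
  (108,10,2124551971267068394758352826209874509327737716559075669491921344490993738360673113373572843085587997444834228109131321518324308659863378314761296039159861072543300884818176392527085572,1236652007595867056596532067828078118868753041678731998810912787188696979345036175225212156018188841798559818496286597511922720643632446790979530435159744106912012884724678656),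
  (108,12,6243497100631984462763194459586332611497196285329942301718313919250743477639558200187279356766778609334740881873486882935318491931057674222829568,57586096570152913699974892898380567793532123114264532903689671329431521032595044740083720782129802971518993933210802844257829641299750243685725096670518561380237312),
  (116,10,57586096583560721629917489997954592792076429897882712025571324760360539513195155943575052352069558832696924227104629311570731470243240621305460771965109032527593472,4249103942534136789516705652419749018636744941816255385595553105603228478886817941913300018121834285351115678018775197888424781141366329824981925291964791545198511029197575738982662144),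
  (128,14,172758289723866549029867275794715728378971445798283268172993097684874513927702969849163565315328395943834175128247500418711589604038173786316567203785729623115956224,247330401473104534060502521025890687135763333563975034373885800741572788267135483712635576663324498487038469978655288447873842144572732887315828325111937189767017534435885056),
  (142,13,247330401473104534060502521022768938585447341332762667471866526039977513568053227707371629619707272720554307137726693324971355633001101240767356298287989926440340349045964800,18347988927920572092886567162532487615636796055468356123380999041854851571163273733265172622929935948840961)]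
set_option maxHeartbeats 0 in
set_option maxRecDepth 100000 in
theorem hFm : (rowsP.map fun x => (x.1, x.2.1, decV 4294967296 20 x.2.2.1 x.2.2.2)) = rowsF := by decide +kernel
set_option maxHeartbeats 0 in
set_option maxRecDepth 100000 in
theorem hFb : (rowsP.all fun x => bcond (maskOK mskM cKK x.2.2.1) (maskOK mskM cKK x.2.2.2) false) = true := by decide +kernel
set_option maxHeartbeats 0 in
set_option maxRecDepth 100000 in
theorem hFc : (rowsP.all (chkRowG τ d n RL 19 (n * d) 430 tv)) = true := by decide +kernel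
theorem hF : ∀ x ∈ rowsF, chkRow C.τ d n RL 19 (n * d) 430 (toV 4294967296 20 tv) x = true :=
  chkRow_of_G (by norm_num) (good_of_mask (W := 32) (b := 16) (by norm_num) (by norm_num) (by norm_num) (by decide +kernel) (by decide +kernel))
    (fun l i hl hi => C.hlt l i hl hi) (fun q _ => words_lg hokR q) (len_of_chk hLn) hEF rowsP rowsF hFm hFb hFc
set_option maxRecDepth 100000 in
/-- A combination. -/
def cb0 : List (ℕ × ℤ) := [(0,.negSucc 162982),(1,.ofNat 80002),(2,.ofNat 60123),(3,.ofNat 113291),(4,.ofNat 59627),(5,.ofNat 22858),(7,.negSucc 58631),(8,.negSucc 152545),(9,.negSucc 188819),(10,.ofNat 82485),(11,.negSucc 109813),(12,.negSucc 3972),(13,.ofNat 30310),(14,.negSucc 44720),(15,.negSucc 216642),(17,.negSucc 48195),(18,.ofNat 123227),(19,.negSucc 3972),(20,.ofNat 295151)]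
set_option maxHeartbeats 0 in
set_option maxRecDepth 100000 in
theorem hcb0 : chkComb 5 15 rowsF 0 0 (0) cb0 = true := by decide +kernel
set_option maxRecDepth 100000 in
/-- A combination. -/
def cb1 : List (ℕ × ℤ) := [(0,.negSucc 148244),(1,.ofNat 72764),(2,.ofNat 54687),(3,.ofNat 103051),(4,.ofNat 54238),(5,.ofNat 20794),(6,.negSucc 1),(7,.negSucc 53333),(8,.negSucc 138757),(9,.negSucc 171749),(10,.ofNat 75029),(11,.negSucc 99885),(12,.negSucc 3616),(13,.ofNat 27570),(14,.negSucc 40676),(15,.negSucc 197062),(17,.negSucc 43839),(18,.ofNat 112093),(19,.negSucc 3616),(20,.ofNat 268473)]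
set_option maxHeartbeats 0 in
set_option maxRecDepth 100000 in
theorem hcb1 : chkComb 5 15 rowsF 0 1 (0) cb1 = true := by decide +kernel
set_option maxRecDepth 100000 in
/-- A combination. -/
def cb2 : List (ℕ × ℤ) := [(0,.ofNat 133043),(1,.negSucc 65303),(2,.negSucc 49076),(3,.negSucc 92480),(4,.negSucc 48673),(5,.negSucc 18661),(7,.ofNat 47862),(8,.ofNat 124526),(9,.ofNat 154136),(10,.negSucc 67336),(11,.ofNat 89640),(12,.ofNat 3243),(13,.negSucc 24741),(14,.ofNat 36505),(15,.ofNat 176847),(17,.ofNat 39343),(18,.negSucc 100590),(19,.ofNat 3243),(20,.negSucc 240932)]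
set_option maxHeartbeats 0 in
set_option maxRecDepth 100000 in
theorem hcb2 : chkComb 5 15 rowsF 0 2 (0) cb2 = true := by decide +kernel
set_option maxRecDepth 100000 in
/-- A combination. -/
def cb3 : List (ℕ × ℤ) := [(0,.ofNat 162983),(1,.negSucc 80001),(2,.negSucc 60122),(3,.negSucc 113290),(4,.negSucc 59626),(5,.negSucc 22857),(7,.ofNat 58632),(8,.ofNat 152546),(9,.ofNat 188821),(10,.negSucc 82485),(11,.ofNat 109813),(12,.ofNat 3973),(13,.negSucc 30309),(14,.ofNat 44721),(15,.ofNat 216643),(17,.ofNat 48196),(18,.negSucc 123226),(19,.ofNat 3973),(20,.negSucc 295150)]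
set_option maxHeartbeats 0 in
set_option maxRecDepth 100000 in
theorem hcb3 : chkComb 5 15 rowsF 0 3 (0) cb3 = true := by decide +kernel
set_option maxRecDepth 100000 in
/-- A combination. -/
def cb4 : List (ℕ × ℤ) := [(0,.ofNat 165571),(1,.negSucc 81281),(2,.negSucc 61076),(3,.negSucc 115077),(4,.negSucc 60566),(5,.negSucc 23210),(6,.negSucc 5),(7,.ofNat 59552),(8,.ofNat 154952),(9,.ofNat 191816),(10,.negSucc 83787),(11,.ofNat 111549),(12,.ofNat 4025),(13,.negSucc 30788),(14,.ofNat 45431),(15,.ofNat 220056),(16,.ofNat 1),(17,.ofNat 48955),(18,.negSucc 125159),(19,.ofNat 4027),(20,.negSucc 299806)]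
set_option maxHeartbeats 0 in
set_option maxRecDepth 100000 in
theorem hcb4 : chkComb 5 15 rowsF 0 4 (0) cb4 = true := by decide +kernel
set_option maxRecDepth 100000 in
/-- A combination. -/
def cb5 : List (ℕ × ℤ) := [(0,.negSucc 45228),(1,.ofNat 22206),(2,.ofNat 16689),(3,.ofNat 31435),(4,.ofNat 16546),(5,.ofNat 6335),(7,.negSucc 16269),(8,.negSucc 42325),(9,.negSucc 52393),(10,.ofNat 22877),(11,.negSucc 30478),(12,.negSucc 1102),(13,.ofNat 8412),(14,.negSucc 12412),(15,.negSucc 60117),(17,.negSucc 13372),(18,.ofNat 34195),(19,.negSucc 1102),(20,.ofNat 81904)]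
set_option maxHeartbeats 0 in
set_option maxRecDepth 100000 in
theorem hcb5 : chkComb 5 15 rowsF 0 5 (0) cb5 = true := by decide +kernel
set_option maxRecDepth 100000 in
/-- A combination. -/
def cb6 : List (ℕ × ℤ) := [(0,.ofNat 162983),(1,.negSucc 80001),(2,.negSucc 60122),(3,.negSucc 113290),(4,.negSucc 59626),(5,.negSucc 22857),(7,.ofNat 58632),(8,.ofNat 152546),(9,.ofNat 188823),(10,.negSucc 82486),(11,.ofNat 109812),(12,.ofNat 3973),(13,.negSucc 30309),(14,.ofNat 44721),(15,.ofNat 216643),(17,.ofNat 48196),(18,.negSucc 123226),(19,.ofNat 3973),(20,.negSucc 295150)]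
set_option maxHeartbeats 0 in
set_option maxRecDepth 100000 in
theorem hcb6 : chkComb 5 15 rowsF 0 6 (0) cb6 = true := by decide +kernel
set_option maxRecDepth 100000 in
/-- A combination. -/
def cb7 : List (ℕ × ℤ) := [(0,.ofNat 67),(1,.negSucc 36),(2,.negSucc 20),(3,.negSucc 40),(4,.negSucc 19),(5,.negSucc 8),(6,.negSucc 3),(7,.ofNat 18),(8,.ofNat 56),(9,.ofNat 74),(10,.negSucc 36),(11,.ofNat 39),(12,.negSucc 4),(13,.negSucc 10),(14,.ofNat 17),(15,.ofNat 72),(17,.ofNat 17),(18,.negSucc 34),(19,.negSucc 4),(20,.negSucc 101)]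
set_option maxHeartbeats 0 in
set_option maxRecDepth 100000 in
theorem hcb7 : chkComb 5 15 rowsF 0 7 (0) cb7 = true := by decide +kernel
set_option maxRecDepth 100000 in
/-- A combination. -/
def cb8 : List (ℕ × ℤ) := [(0,.negSucc 133506),(1,.ofNat 65526),(2,.ofNat 49251),(3,.ofNat 92811),(4,.ofNat 48849),(5,.ofNat 18730),(6,.negSucc 3),(7,.negSucc 48035),(8,.negSucc 124969),(9,.negSucc 154678),(10,.ofNat 67571),(11,.negSucc 89958),(12,.negSucc 3260),(13,.ofNat 24830),(14,.negSucc 36632),(15,.negSucc 177482),(17,.negSucc 39483),(18,.ofNat 100959),(19,.negSucc 3260),(20,.ofNat 241795)]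
set_option maxHeartbeats 0 in
set_option maxRecDepth 100000 in
theorem hcb8 : chkComb 5 15 rowsF 0 8 (0) cb8 = true := by decide +kernel
set_option maxRecDepth 100000 in
/-- A combination. -/
def cb9 : List (ℕ × ℤ) := [(0,.ofNat 399128),(1,.negSucc 195911),(2,.negSucc 147230),(3,.negSucc 277442),(4,.negSucc 146021),(5,.negSucc 55985),(7,.ofNat 143586),(8,.ofNat 373578),(9,.ofNat 462407),(10,.negSucc 202011),(11,.ofNat 268919),(12,.ofNat 9729),(13,.negSucc 74225),(14,.ofNat 109515),(15,.ofNat 530541),(17,.ofNat 118029),(18,.negSucc 301772),(19,.ofNat 9729),(20,.negSucc 722798)]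
set_option maxHeartbeats 0 in
set_option maxRecDepth 100000 in
theorem hcb9 : chkComb 5 15 rowsF 0 9 (0) cb9 = true := by decide +kernel
set_option maxRecDepth 100000 in
/-- A combination. -/
def cb10 : List (ℕ × ℤ) := [(0,.negSucc 7248),(1,.ofNat 3553),(2,.ofNat 2679),(3,.ofNat 5046),(4,.ofNat 2658),(5,.ofNat 1017),(6,.negSucc 4),(7,.negSucc 2615),(8,.negSucc 6793),(9,.negSucc 8400),(10,.ofNat 3664),(11,.negSucc 4893),(12,.negSucc 184),(13,.ofNat 1350),(14,.negSucc 1990),(15,.negSucc 9657),(17,.negSucc 2146),(18,.ofNat 5501),(19,.negSucc 184),(20,.ofNat 13153)]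
set_option maxHeartbeats 0 in
set_option maxRecDepth 100000 in
theorem hcb10 : chkComb 5 15 rowsF 0 10 (0) cb10 = true := by decide +kernel
set_option maxRecDepth 100000 in
/-- A combination. -/
def cb11 : List (ℕ × ℤ) := [(0,.ofNat 120),(1,.negSucc 65),(2,.negSucc 38),(3,.negSucc 73),(4,.negSucc 36),(5,.negSucc 14),(6,.negSucc 5),(7,.ofNat 33),(8,.ofNat 100),(9,.ofNat 134),(10,.negSucc 63),(11,.ofNat 70),(12,.negSucc 6),(13,.negSucc 19),(14,.ofNat 31),(15,.ofNat 132),(17,.ofNat 31),(18,.negSucc 65),(19,.negSucc 6),(20,.negSucc 185)]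
set_option maxHeartbeats 0 in
set_option maxRecDepth 100000 in
theorem hcb11 : chkComb 5 15 rowsF 0 11 (0) cb11 = true := by decide +kernel
set_option maxRecDepth 100000 in
/-- A combination. -/
def cb12 : List (ℕ × ℤ) := [(0,.ofNat 133395),(1,.negSucc 65480),(2,.negSucc 49202),(3,.negSucc 92719),(4,.negSucc 48797),(5,.negSucc 18710),(6,.negSucc 3),(7,.ofNat 47982),(8,.ofNat 124848),(9,.ofNat 154542),(10,.negSucc 67518),(11,.ofNat 89869),(12,.ofNat 3245),(13,.negSucc 24805),(14,.ofNat 36600),(15,.ofNat 177297),(17,.ofNat 39444),(18,.negSucc 100840),(19,.ofNat 3245),(20,.negSucc 241549)]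
set_option maxHeartbeats 0 in
set_option maxRecDepth 100000 in
theorem hcb12 : chkComb 5 15 rowsF 0 12 (0) cb12 = true := by decide +kernel
set_option maxRecDepth 100000 in
/-- A combination. -/
def cb13 : List (ℕ × ℤ) := [(0,.ofNat 7294),(1,.negSucc 3578),(2,.negSucc 2687),(3,.negSucc 5070),(4,.negSucc 2667),(5,.negSucc 1026),(6,.negSucc 0),(7,.ofNat 2623),(8,.ofNat 6829),(9,.ofNat 8452),(10,.negSucc 3698),(11,.ofNat 4911),(12,.ofNat 176),(13,.negSucc 1355),(14,.ofNat 2000),(15,.ofNat 9693),(17,.ofNat 2157),(18,.negSucc 5511),(19,.ofNat 176),(20,.negSucc 13205)]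
set_option maxHeartbeats 0 in
set_option maxRecDepth 100000 in
theorem hcb13 : chkComb 5 15 rowsF 0 13 (0) cb13 = true := by decide +kernel
set_option maxRecDepth 100000 in
/-- A combination. -/
def cb14 : List (ℕ × ℤ) := [(0,.negSucc 126),(1,.ofNat 54),(2,.ofNat 51),(3,.ofNat 99),(4,.ofNat 54),(5,.ofNat 22),(6,.negSucc 5),(7,.negSucc 55),(8,.negSucc 132),(9,.negSucc 152),(10,.ofNat 64),(11,.negSucc 94),(12,.negSucc 12),(13,.ofNat 26),(14,.negSucc 35),(15,.negSucc 196),(17,.negSucc 42),(18,.ofNat 121),(19,.negSucc 12),(20,.ofNat 262)]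
set_option maxHeartbeats 0 in
set_option maxRecDepth 100000 in
theorem hcb14 : chkComb 5 15 rowsF 0 14 (0) cb14 = true := by decide +kernel

theorem hcert : ∀ q, q < 15 → ∃ (a : ℤ) (L : List (ℕ × ℤ)), chkComb 5 15 rowsF 0 q a L = true ∧ (q = 0 → a = 1 - ((1 : ℕ) : ℤ)) := by
  intro q hq
  interval_cases q
  · exact ⟨0, cb0, hcb0, by norm_num⟩
  · exact ⟨0, cb1, hcb1, by norm_num⟩
  · exact ⟨0, cb2, hcb2, by norm_num⟩
  · exact ⟨0, cb3, hcb3, by norm_num⟩
  · exact ⟨0, cb4, hcb4, by norm_num⟩
  · exact ⟨0, cb5, hcb5, by norm_num⟩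
  · exact ⟨0, cb6, hcb6, by norm_num⟩
  · exact ⟨0, cb7, hcb7, by norm_num⟩
  · exact ⟨0, cb8, hcb8, by norm_num⟩
  · exact ⟨0, cb9, hcb9, by norm_num⟩
  · exact ⟨0, cb10, hcb10, by norm_num⟩
  · exact ⟨0, cb11, hcb11, by norm_num⟩
  · exact ⟨0, cb12, hcb12, by norm_num⟩
  · exact ⟨0, cb13, hcb13, by norm_num⟩
  · exact ⟨0, cb14, hcb14, by norm_num⟩


end Cfsg.Agent.Lib.KnownSimple.MultM.L33H
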