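import Mathlib

/-!
# Data of a coset enumeration
-/

set_option autoImplicit false

namespace Cfsg.Agent.Lib.KnownSimple.MultM.L33H

/-- Generated data. -/
def par1 : ℕ := 0x8df7975d44d34924514103ce38d34c2ca2892482071861451040c3082041000
/-- Generated data. -/
def gix1 : ℕ := 0x1258894a50a5249488948
/-- Generated data. -/
def dp1 : ℕ := 0x3ffb6db6db6d6db6db6db249246db488
/-- Generated data. -/
def fa1 : ℕ := 0xa689e79a59649238e281f79d69a6596585d65944d249140e34c2892071851440c2069a63a287e77a69979579144e28937d075d85041054820814f09b8558528204917914103da38e59860d34c2d428a2492081c63061451041c30c2081040000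
/-- Generated data. -/
def fl1 : ℕ := 0x41000404002020808000080810400101000400100080820200100040400200080020204080040808000080810004002040400104080800000100c607180c6080e3038c163000008202080020404080040410104001010000100040408004040020404080040008200080810008080
/-- Generated data. -/
def fb1 : ℕ := 0x8dfa5e5d7a2551399349145039d80e98d36230a29d2492071861441030c2202041027a69968a279e36669259248e25a27d049a76171041514b2053c269556181981f79e75c6da6995986185d655451349140f38d30c2ca2481c7185103081000
/-- Generated data. -/
def fk1 : ℕ := 0x10c8220c4419062110632088310c43110641888220c441104418c62224a06a00501cc04820002ca03088218c42210631908a934e08b00058000038009b50000006000000000078000000e00000000021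
/-- Generated data. -/
def po1 : ℕ := 0xb95c6e16fb75b6d96bb55a6d167b3596c963b1586c15faf576b95bad566b157ab556a953a9546a14fa7536994ba55269147a34e65d2e90c6a350f87c21fafd783c1c6e371b5996cb602f978ba5c2d968b157ab556a953a954695441ece87433968b45a269349a4d269008040198983e1f0f87c3e140a05028140a05028140381c0e070381c0000000000000000000000
/-- Generated data. -/
def pc1 : ℕ := 0x111111111111111111111111111111111111111111111db0d70b07b0d0d00db0b22222232222222edd70dd00d0000d00dd70000b00000000d000007000000000
/-- Generated data. -/
def pa1 : ℕ := 0xa09aa496908c9e8e8886948052504c4a4278544092383682342e2c7a2a282622201c181614100e0c6a0a080604a2a0862c2f31898e9e9a504d97a0949340221323419295a19a50282b7a4a7d266b192f898e9a504d4f4c519b964c282b5357522a294d97908d8f882e2d879036200e112343787b53558c36201d1f358285802c2f898b882e2d8185833f8285802c2f8983341f1c0e1113100f1d1f3582802c186a140a06090f1d3550281615277c261417295173487658765f744b6e5a70496e5d6f6c276933691a661b6424620d6046462414172b595f45422213100807582a160a0604010305091123435a5853575540221008070d1b33582a160a0d1b33522a160a060403050911234154522a160a0604030105091123414c28160a06040305070b17294d422213100f1d1f1c0e11132343341c21393a3c3a3c3a38201d3538200e0804030105090f21393b38201d1f1c21392e180c06040105070d192f1c0e1113100804010305090f1d10080403050911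
/-- Generated data. -/
def can1 : ℕ := 0xa689e69648e281f79d6996175944d245038d30a2481c61440c2040
/-- Generated data. -/
def tb1_0 : ℕ := 0x75f65689e8d141a85762054c2d271b24e1d44c53c4343288181080
/-- Generated data. -/
def fi1_0 : ℕ := 0xff3fe49f316874e6fe5bcddacf69ce62029c4fb01b3574a5b236460a0f50180
/-- Generated data. -/
def tb1_1 : ℕ := 0x8da85d5128136e23ce5cd31f71e2896585951914051cb2020440c0
/-- Generated data. -/
def fi1_1 : ℕ := 0xa3fa64af5dfac157378f045b3546d1132e34c9501cbc58ab5123abd6aa14201
/-- Generated data. -/
def tb1_2 : ℕ := 0x8628d479f45c58f65035b5604ca7586885c62d210e0cc0891c5001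
/-- Generated data. -/
def fi1_2 : ℕ := 0xa53befb8fe3b4255c93bddfb4ec83f9a1e451850df1e5ee13b442c0b101a982

end Cfsg.Agent.Lib.KnownSimple.MultM.L33H
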